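import Groth.Prelude.Def_Coh
import Mathlib.AlgebraicGeometry.Modules.Tilde
import Mathlib.Algebra.Category.ModuleCat.Sheaf.Quasicoherent

/-!
# The structure sheaf is quasi-coherent
-/

set_option autoImplicit false
universe u

open CategoryTheory CategoryTheory.Limits AlgebraicGeometry

namespace Groth.Agent.QCohLoc

theorem isQCoh_structureModule (X : Scheme.{u}) : Coh.IsQCoh (Coh.structureModule X) := by
  let g : SheafOfModules.free (R := X.ringCatSheaf) PUnit.{u + 1} ⟶ SheafOfModules.unit X.ringCatSheaf :=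
    Sigma.desc fun _ => 𝟙 _
  haveI : IsIso g := ⟨⟨Sigma.ι (fun _ : PUnit.{u + 1} => SheafOfModules.unit X.ringCatSheaf) PUnit.unit,
    Sigma.hom_ext _ _ fun a => by
      erw [Sigma.ι_desc_assoc, Category.id_comp], by erw [Sigma.ι_desc]⟩⟩
  have H : (0 : SheafOfModules.free (R := X.ringCatSheaf) PEmpty.{u + 1} ⟶ _) ≫ g = 0 := zero_comp
  exact (SheafOfModules.presentationOfIsCokernelFree 0 g H
    (CokernelCofork.IsColimit.ofπ g H (fun {_} k _ => inv g ≫ k) (fun {_} k _ => by simp)
      (fun {_} k _ m hm => by rw [← hm, IsIso.inv_hom_id_assoc]))).isQuasicoherent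

end Groth.Agent.QCohLoc
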