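import Groth.Prelude.Def_FlatMod2
import Mathlib.AlgebraicGeometry.Modules.Tilde
import Mathlib.RingTheory.Localization.AtPrime.Basic
import Mathlib.Algebra.Category.ModuleCat.Stalk

/-!
# Sections and stalks of quasi-coherent modules over affine opens
-/

set_option autoImplicit false
universe u

open CategoryTheory AlgebraicGeometry Opposite TopologicalSpace

namespace Groth.Agent.QCohLoc

variable {X : Scheme.{u}} (M : X.Modules) [M.IsQuasicoherent]

/-- Transport of sections between the restriction to `Spec Γ(X, U)` and `X`: scalars. -/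
theorem appIso_inv_toSpec {U : X.Opens} (hU : IsAffineOpen U) (V : (Spec Γ(X, U)).Opens)
    (hVU : hU.fromSpec ''ᵁ V ≤ U) (r : Γ(X, U)) :
    (hU.fromSpec.appIso V).inv ((Spec Γ(X, U)).presheaf.map V.leTop.op
      ((Scheme.ΓSpecIso Γ(X, U)).inv r)) = X.presheaf.map (homOfLE hVU).op r := by
  have e : V ≤ hU.fromSpec ⁻¹ᵁ U := by rw [hU.fromSpec_preimage_self]; exact le_top
  have h1 : (Scheme.ΓSpecIso Γ(X, U)).inv ≫ (Spec Γ(X, U)).presheaf.map V.leTop.op =
      hU.fromSpec.appLE U V e := by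
    rw [Scheme.Hom.appLE, hU.fromSpec_app_self, Category.assoc, ← Functor.map_comp]
    rfl
  have h2 := congr($h1 r)
  rw [CommRingCat.comp_apply] at h2
  rw [h2, ← CommRingCat.comp_apply, Scheme.Hom.appLE_appIso_inv]

theorem smul_toSpec {U : X.Opens} (hU : IsAffineOpen U) (V : (Spec Γ(X, U)).Opens)
    (hVU : hU.fromSpec ''ᵁ V ≤ U) (r : Γ(X, U)) (z : Γ(M.restrict hU.fromSpec, V)) :
    (M.restrictAppIso hU.fromSpec V).hom (r • z) =
      X.presheaf.map (homOfLE hVU).op r • (M.restrictAppIso hU.fromSpec V).hom z := by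
  rw [← appIso_inv_toSpec hU V hVU r]
  rfl

theorem exists_smul_eq_map_spec {R : CommRingCat.{u}} (N : (Spec R).Modules) [N.IsQuasicoherent]
    (f : R) (s : Γ(N, (PrimeSpectrum.basicOpen f : (Spec R).Opens))) :
    ∃ (n : ℕ) (t : Γ(N, ⊤)), (f ^ n) • s =
      N.presheaf.map (Opens.leTop (PrimeSpectrum.basicOpen f : (Spec R).Opens)).op t := by
  have hloc := (isIso_fromTildeΓ_iff_isLocalizing N).1 inferInstance f
  obtain ⟨⟨t, ⟨_, n, rfl⟩⟩, ht⟩ := @IsLocalizedModule.surj _ _ _ _ _ _ _ _ (Submonoid.powers f) _ hloc s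
  exact ⟨n, t, ht⟩

theorem exists_pow_smul_eq_zero_spec {R : CommRingCat.{u}} (N : (Spec R).Modules) [N.IsQuasicoherent]
    (f : R) (t : Γ(N, ⊤))
    (h : N.presheaf.map (Opens.leTop (PrimeSpectrum.basicOpen f : (Spec R).Opens)).op t = 0) :
    ∃ n : ℕ, (f ^ n) • t = 0 := by
  have hloc := (isIso_fromTildeΓ_iff_isLocalizing N).1 inferInstance f
  obtain ⟨⟨_, n, rfl⟩, hn⟩ := (@IsLocalizedModule.eq_zero_iff _ _ (Submonoid.powers f) _ _ _ _ _ _ _ hloc t).1 h
  exact ⟨n, hn⟩

theorem exists_smul_eq_map {U : X.Opens} (hU : IsAffineOpen U) (f : Γ(X, U))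
    (s : Γ(M, X.basicOpen f)) :
    ∃ (n : ℕ) (t : Γ(M, U)), M.presheaf.map (homOfLE (X.basicOpen_le f)).op t =
      X.presheaf.map (homOfLE (X.basicOpen_le f)).op (f ^ n) • s := by
  let D : (Spec Γ(X, U)).Opens := PrimeSpectrum.basicOpen f
  have himg : hU.fromSpec ''ᵁ D = X.basicOpen f := hU.fromSpec_image_basicOpen f
  have htop : hU.fromSpec ''ᵁ ⊤ = U := by
    rw [Scheme.Hom.image_top_eq_opensRange, hU.opensRange_fromSpec]
  obtain ⟨n, t', ht⟩ := exists_smul_eq_map_spec (M.restrict hU.fromSpec) f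
    ((M.restrictAppIso hU.fromSpec D).inv (M.presheaf.map (eqToHom himg).op s))
  refine ⟨n, M.presheaf.map (eqToHom htop.symm).op ((M.restrictAppIso hU.fromSpec ⊤).hom t'), ?_⟩
  have h3 := congr((M.restrictAppIso hU.fromSpec D).hom $ht)
  rw [smul_toSpec M hU _ (himg.le.trans (X.basicOpen_le f)), Iso.inv_hom_id_apply] at h3
  have h4 := congr(M.presheaf.map (eqToHom himg.symm).op $h3)
  rw [M.map_smul, ← Functor.map_comp_apply, ← Functor.map_comp_apply] at h4
  simp only [← op_comp, eqToHom_trans, eqToHom_refl, op_id, CategoryTheory.Functor.map_id,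
    ConcreteCategory.id_apply] at h4
  refine Eq.trans ?_ h4.symm
  show _ = M.presheaf.map _ (M.presheaf.map (hU.fromSpec.opensFunctor.map D.leTop).op t')
  rw [← Functor.map_comp_apply, ← Functor.map_comp_apply]
  rfl

theorem exists_pow_smul_eq_zero {U : X.Opens} (hU : IsAffineOpen U) (f : Γ(X, U)) (t : Γ(M, U))
    (ht : M.presheaf.map (homOfLE (X.basicOpen_le f)).op t = 0) :
    ∃ n : ℕ, f ^ n • t = 0 := by
  let D : (Spec Γ(X, U)).Opens := PrimeSpectrum.basicOpen f
  have himg : hU.fromSpec ''ᵁ D = X.basicOpen f := hU.fromSpec_image_basicOpen f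
  have htop : hU.fromSpec ''ᵁ ⊤ = U := by
    rw [Scheme.Hom.image_top_eq_opensRange, hU.opensRange_fromSpec]
  have h0 : M.presheaf.map (hU.fromSpec.opensFunctor.map D.leTop).op
      (M.presheaf.map (eqToHom htop).op t) = 0 := by
    rw [← Functor.map_comp_apply,
      show (eqToHom htop).op ≫ (hU.fromSpec.opensFunctor.map D.leTop).op =
        (homOfLE (X.basicOpen_le f)).op ≫ (eqToHom himg).op from rfl,
      Functor.map_comp_apply, ht, map_zero]
  obtain ⟨n, hn⟩ := exists_pow_smul_eq_zero_spec (M.restrict hU.fromSpec) f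
    ((M.restrictAppIso hU.fromSpec ⊤).inv (M.presheaf.map (eqToHom htop).op t)) h0
  refine ⟨n, ?_⟩
  have h3 := congr((M.restrictAppIso hU.fromSpec ⊤).hom $hn)
  rw [smul_toSpec M hU _ htop.le, Iso.inv_hom_id_apply, map_zero] at h3
  have h4 := congr(M.presheaf.map (eqToHom htop.symm).op $h3)
  rw [M.map_smul, ← Functor.map_comp_apply, ← Functor.map_comp_apply, map_zero] at h4
  simp only [← op_comp, eqToHom_trans, eqToHom_refl, op_id, CategoryTheory.Functor.map_id,
    ConcreteCategory.id_apply] at h4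
  have hr : X.presheaf.map (eqToHom htop.symm ≫ homOfLE htop.le).op (f ^ n) = f ^ n := by
    simp
  rwa [hr] at h4

variable {U : X.Opens} (hU : IsAffineOpen U) {x : X} (hx : x ∈ U)

omit [M.IsQuasicoherent] in
theorem germ_smul' {V : X.Opens} (hV : x ∈ V) (r : Γ(X, V)) (m : Γ(M, V)) :
    M.presheaf.germ V x hV (r • m) =
      (X.presheaf.germ V x hV r) • M.presheaf.germ V x hV m :=
  PresheafOfModules.germ_smul (R := X.presheaf) (show PresheafOfModules (X.presheaf ⋙ forget₂ CommRingCat RingCat) from M.val) x V hV r m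

include hU in
theorem exists_smul_stalk_eq_germ (z : M.presheaf.stalk x) :
    ∃ (f : Γ(X, U)) (m : Γ(M, U)), x ∈ X.basicOpen f ∧
      (X.presheaf.germ U x hx f) • z = M.presheaf.germ U x hx m := by
  obtain ⟨V, hxV, s, rfl⟩ := M.presheaf.exists_germ_eq z
  obtain ⟨f, hfV, hxf⟩ := hU.exists_basicOpen_le (⟨x, hxV⟩ : V) hx
  obtain ⟨n, t, ht⟩ := exists_smul_eq_map M hU f (M.presheaf.map (homOfLE hfV).op s)
  refine ⟨f ^ n, t, ?_, ?_⟩
  · rcases Nat.eq_zero_or_pos n with rfl | hn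
    · rw [pow_zero, Scheme.basicOpen_of_isUnit _ isUnit_one]; exact hx
    · rwa [Scheme.mem_basicOpen _ _ _ hx, map_pow, isUnit_pow_iff hn.ne', ← Scheme.mem_basicOpen]
  · have := congr(M.presheaf.germ (X.basicOpen f) x hxf $ht)
    rw [germ_smul', TopCat.Presheaf.germ_res_apply, TopCat.Presheaf.germ_res_apply,
      TopCat.Presheaf.germ_res_apply] at this
    exact this.symm

include hU in
theorem exists_smul_eq_zero_of_germ (m : Γ(M, U)) (h : M.presheaf.germ U x hx m = 0) :
    ∃ f : Γ(X, U), x ∈ X.basicOpen f ∧ f • m = 0 := by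
  obtain ⟨V, hxV, i, j, e⟩ := M.presheaf.germ_eq x hx hx m 0 (by rw [h, map_zero])
  obtain ⟨f, hfV, hxf⟩ := hU.exists_basicOpen_le (⟨x, hxV⟩ : V) hx
  have h0 : M.presheaf.map (homOfLE (X.basicOpen_le f)).op m = 0 := by
    have := congr(M.presheaf.map (homOfLE hfV).op $e)
    rw [map_zero, map_zero, ← Functor.map_comp_apply] at this
    exact this
  obtain ⟨n, hn⟩ := exists_pow_smul_eq_zero M hU f m h0
  refine ⟨f ^ (n + 1), ?_, ?_⟩
  · rwa [Scheme.mem_basicOpen _ _ _ hx, map_pow, isUnit_pow_iff (Nat.succ_ne_zero n),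
      ← Scheme.mem_basicOpen]
  · rw [pow_succ', mul_smul, hn, smul_zero]

end Groth.Agent.QCohLoc
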